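import Groth.Agent.H8Props.FlatLocus.Sheaf
import Groth.Agent.H7Flat.Chain.RelAssScheme
import Groth.Agent.H7Flat.FlatAtAssoc
import Groth.Agent.H06EGA11.BaseChange

/-!
# Flatness of a module over the base at a point and at its generalisations
-/

set_option autoImplicit false
set_option linter.style.haveILetI false
universe u

open CategoryTheory AlgebraicGeometry TopologicalSpace

namespace Groth.Agent.H8Props.FlatGen

variable {X Y : Scheme.{u}} (f : X ⟶ Y)

theorem exists_chart (x : X) :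
    ∃ (V : Y.Opens) (_ : IsAffineOpen V) (U : X.Opens) (_ : IsAffineOpen U) (_ : U ≤ f ⁻¹ᵁ V), x ∈ U := by
  obtain ⟨_, ⟨V, hV, rfl⟩, hxV, -⟩ :=
    Y.isBasis_affineOpens.exists_subset_of_mem_open (Set.mem_univ (f x)) isOpen_univ
  obtain ⟨_, ⟨U, hU, rfl⟩, hxU, hUle⟩ :=
    X.isBasis_affineOpens.exists_subset_of_mem_open (show x ∈ (f ⁻¹ᵁ V : Set X) from hxV) (f ⁻¹ᵁ V).2
  exact ⟨V, hV, U, hU, hUle, hxU⟩

theorem primeIdealOf_le {U : X.Opens} (hU : IsAffineOpen U) {y x : U} (h : y.1 ⤳ x.1) :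
    (hU.primeIdealOf y).asIdeal ≤ (hU.primeIdealOf x).asIdeal := by
  refine (PrimeSpectrum.asIdeal_le_asIdeal _ _).2 ((PrimeSpectrum.le_iff_specializes _ _).2 ?_)
  refine hU.fromSpec.isOpenEmbedding.isInducing.specializes_iff.1 ?_
  rwa [hU.fromSpec_primeIdealOf, hU.fromSpec_primeIdealOf]

/-- Flatness over the base at a point passes to its generalisations. -/
theorem isFlatOverAt_of_specializes (F : X.Modules) (hF : Coh.IsQCoh F) {y x : X} (h : y ⤳ x)
    (hx : FlatMod.IsFlatOverAt f F x) : FlatMod.IsFlatOverAt f F y := by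
  obtain ⟨V, hV, U, hU, hUV, hxU⟩ := exists_chart f x
  have hyU : y ∈ U := h.mem_open U.2 hxU
  rw [FlatLocus.isFlatOverAt_iff_localizedModule f F hF hV hU hUV ⟨x, hxU⟩] at hx
  rw [FlatLocus.isFlatOverAt_iff_localizedModule f F hF hV hU hUV ⟨y, hyU⟩]
  letI := Module.compHom Γ(F, U) (f.appLE V U hUV).hom
  letI := (f.appLE V U hUV).hom.toAlgebra
  haveI : IsScalarTower Γ(Y, V) Γ(X, U) Γ(F, U) := .of_algebraMap_smul fun _ _ => rfl
  haveI := hx
  exact H06EGA11.flat_localizedModule_of_le (hU.primeIdealOf ⟨x, hxU⟩).asIdeal.primeCompl _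
    fun s hs hs' => hs (primeIdealOf_le hU (y := ⟨y, hyU⟩) (x := ⟨x, hxU⟩) h hs')

/-- A finite type module is flat at a point when it is flat at the relative associated points of
which the point is a specialization (in its fibre). -/
theorem isFlatOverAt_of_relAss [LocallyOfFiniteType f] (F : X.Modules) (hF : Coh.IsQCoh F)
    (hFt : CohB1.IsFT F) (x : X)
    (h : ∀ y ∈ MoreMor.relAss f F, y ⤳ x → f y = f x → FlatMod.IsFlatOverAt f F y) :
    FlatMod.IsFlatOverAt f F x := by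
  obtain ⟨V, hV, U, hU, hUV, hxU⟩ := exists_chart f x
  rw [FlatLocus.isFlatOverAt_iff_localizedModule f F hF hV hU hUV ⟨x, hxU⟩]
  letI := Module.compHom Γ(F, U) (f.appLE V U hUV).hom
  letI := (f.appLE V U hUV).hom.toAlgebra
  haveI : IsScalarTower Γ(Y, V) Γ(X, U) Γ(F, U) := .of_algebraMap_smul fun _ _ => rfl
  haveI : Algebra.FiniteType Γ(Y, V) Γ(X, U) :=
    RingHom.finiteType_algebraMap.mp (show (algebraMap Γ(Y, V) Γ(X, U)).FiniteType from
      f.finiteType_appLE hV hU hUV)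
  haveI : F.IsQuasicoherent := hF
  haveI : Module.Finite Γ(X, U) Γ(F, U) := H10Coh.finite_sections F hFt hU
  haveI hqp : (hU.primeIdealOf ⟨x, hxU⟩).asIdeal.LiesOver (hV.primeIdealOf ⟨f x, hUV hxU⟩).asIdeal :=
    ⟨(congrArg PrimeSpectrum.asIdeal (IsAffineOpen.comap_primeIdealOf_appLE (f := f) V hV U hU hUV hxU)).symm⟩
  refine H7Flat.FlatAtAssoc.flatAt_of_assoc Γ(F, U) (hV.primeIdealOf ⟨f x, hUV hxU⟩).asIdeal
    (hU.primeIdealOf ⟨x, hxU⟩).asIdeal fun q' hq' hle hlie hass => ?_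
  let y : U := ⟨hU.fromSpec ⟨q', hq'⟩, hU.range_fromSpec.subset ⟨_, rfl⟩⟩
  have hy : hU.primeIdealOf y = ⟨q', hq'⟩ :=
    hU.fromSpec.isOpenEmbedding.injective (hU.fromSpec_primeIdealOf y)
  have hpy : hV.primeIdealOf ⟨f y.1, hUV y.2⟩ = hV.primeIdealOf ⟨f x, hUV hxU⟩ := by
    rw [← IsAffineOpen.comap_primeIdealOf_appLE (f := f) V hV U hU hUV y.2, hy]
    exact PrimeSpectrum.ext hlie.over.symm
  have hyrel : y.1 ∈ MoreMor.relAss f F := by
    refine (H7Flat.Chain.RelAss.mem_relAss_iff f F hF hV hU hUV y rfl).mpr ?_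
    rw [hpy, hy]
    exact hass
  have hyx : y.1 ⤳ x := by
    have h2 := Specializes.map ((PrimeSpectrum.le_iff_specializes ⟨q', hq'⟩ _).1 hle) hU.fromSpec.continuous
    rwa [hU.fromSpec_primeIdealOf ⟨x, hxU⟩] at h2
  have hfy : f y.1 = f x := by
    have := congrArg hV.fromSpec hpy
    rwa [hV.fromSpec_primeIdealOf, hV.fromSpec_primeIdealOf] at this
  have hflat := (FlatLocus.isFlatOverAt_iff_localizedModule f F hF hV hU hUV y).1 (h y.1 hyrel hyx hfy)
  have key : ∀ z, hU.primeIdealOf y = z → FlatCA.FlatAt Γ(Y, V) z.asIdeal Γ(F, U) := by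
    rintro z rfl
    exact hflat
  exact key ⟨q', hq'⟩ hy

end Groth.Agent.H8Props.FlatGen
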