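import Groth.Agent.H8Props.FlatGen.Basic
import Groth.Agent.H8Props.FieldDimFibre

/-!
# The non-flat locus in a fibre
-/

set_option autoImplicit false
set_option linter.style.haveILetI false
universe u

open CategoryTheory AlgebraicGeometry TopologicalSpace Topology

namespace Groth.Agent.H8Props.FlatGen

attribute [local instance] Algebra.TensorProduct.rightAlgebra

variable {X Y : Scheme.{u}} (f : X ⟶ Y) [LocallyOfFiniteType f]

theorem finite_relAss_fibre (F : X.Modules) (hF : Coh.IsQCoh F) (hFt : CohB1.IsFT F) (s : Y)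
    {V : Y.Opens} (hV : IsAffineOpen V) {U : X.Opens} (hU : IsAffineOpen U) (hUV : U ≤ f ⁻¹ᵁ V) :
    {y : X | y ∈ U ∧ f y = s ∧ y ∈ MoreMor.relAss f F}.Finite := by
  letI := Module.compHom Γ(F, U) (f.appLE V U hUV).hom
  letI := (f.appLE V U hUV).hom.toAlgebra
  haveI : IsScalarTower Γ(Y, V) Γ(X, U) Γ(F, U) := .of_algebraMap_smul fun _ _ => rfl
  haveI : Algebra.FiniteType Γ(Y, V) Γ(X, U) :=
    RingHom.finiteType_algebraMap.mp (show (algebraMap Γ(Y, V) Γ(X, U)).FiniteType from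
      f.finiteType_appLE hV hU hUV)
  haveI : F.IsQuasicoherent := hF
  haveI : Module.Finite Γ(X, U) Γ(F, U) := H10Coh.finite_sections F hFt hU
  by_cases hs : s ∈ V
  swap
  · refine Set.finite_empty.subset ?_
    rintro y ⟨hyU, rfl, -⟩
    exact (hs (hUV hyU)).elim
  let p := hV.primeIdealOf ⟨s, hs⟩
  haveI : IsNoetherianRing (p.asIdeal.Fiber Γ(X, U)) :=
    Algebra.FiniteType.isNoetherianRing p.asIdeal.ResidueField _
  haveI : Module.Finite (p.asIdeal.Fiber Γ(X, U)) (FlatCA.fiberMod p.asIdeal Γ(X, U) Γ(F, U)) :=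
    inferInstanceAs (Module.Finite (p.asIdeal.Fiber Γ(X, U))
      (TensorProduct Γ(X, U) (p.asIdeal.Fiber Γ(X, U)) Γ(F, U)))
  let T : Set (PrimeSpectrum Γ(X, U)) := {q | FlatCA.fiberIdeal p.asIdeal q.asIdeal ∈
    associatedPrimes (p.asIdeal.Fiber Γ(X, U)) (FlatCA.fiberMod p.asIdeal Γ(X, U) Γ(F, U)) ∧
    q.asIdeal.LiesOver p.asIdeal}
  have hT : T.Finite := by
    refine Set.Finite.of_finite_image
      (f := fun q : PrimeSpectrum Γ(X, U) => FlatCA.fiberIdeal p.asIdeal q.asIdeal)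
      ((associatedPrimes.finite (p.asIdeal.Fiber Γ(X, U)) (FlatCA.fiberMod p.asIdeal Γ(X, U) Γ(F, U))).subset ?_) ?_
    · rintro _ ⟨q, hq, rfl⟩; exact hq.1
    · rintro q₁ ⟨-, ho₁⟩ q₂ ⟨-, ho₂⟩ he
      haveI := ho₁
      haveI := ho₂
      refine PrimeSpectrum.ext ?_
      rw [← H7Flat.ImpurityDescend.comap_fiberIdeal p.asIdeal q₁.asIdeal,
        ← H7Flat.ImpurityDescend.comap_fiberIdeal p.asIdeal q₂.asIdeal, show FlatCA.fiberIdeal p.asIdeal q₁.asIdeal = _ from he]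
  refine (hT.image hU.fromSpec).subset ?_
  rintro y ⟨hyU, hys, hy⟩
  refine ⟨hU.primeIdealOf ⟨y, hyU⟩, ?_, hU.fromSpec_primeIdealOf _⟩
  have hp : hV.primeIdealOf ⟨f y, hUV hyU⟩ = p := congrArg hV.primeIdealOf (Subtype.ext hys)
  have h1 := (H7Flat.Chain.RelAss.mem_relAss_iff f F hF hV hU hUV ⟨y, hyU⟩ rfl).mp hy
  have h2 : (hU.primeIdealOf ⟨y, hyU⟩).asIdeal.LiesOver (hV.primeIdealOf ⟨f y, hUV hyU⟩).asIdeal :=
    ⟨(congrArg PrimeSpectrum.asIdeal (IsAffineOpen.comap_primeIdealOf_appLE (f := f) V hV U hU hUV hyU)).symm⟩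
  have key : ∀ z, hV.primeIdealOf ⟨f y, hUV hyU⟩ = z →
      FlatCA.fiberIdeal z.asIdeal (hU.primeIdealOf ⟨y, hyU⟩).asIdeal ∈
          associatedPrimes (z.asIdeal.Fiber Γ(X, U)) (FlatCA.fiberMod z.asIdeal Γ(X, U) Γ(F, U)) ∧
        (hU.primeIdealOf ⟨y, hyU⟩).asIdeal.LiesOver z.asIdeal := by
    rintro z rfl
    exact ⟨h1, h2⟩
  exact key p hp

/-- The flat locus of a finite type module is open in every fibre. -/
theorem isClosed_not_flat_fibre (F : X.Modules) (hF : Coh.IsQCoh F) (hFt : CohB1.IsFT F) (s : Y) :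
    IsClosed {u : f.fiber s | ¬ FlatMod.IsFlatOverAt f F (f.fiberι s u)} := by
  rw [← isOpen_compl_iff, isOpen_iff_forall_mem_open]
  intro u hu
  simp only [Set.mem_compl_iff, Set.mem_ofPred_eq, not_not] at hu
  obtain ⟨V, hV, U, hU, hUV, hxU⟩ := exists_chart f (f.fiberι s u)
  have hfin := finite_relAss_fibre f F hF hFt s hV hU hUV
  let T : Set X := {y | (y ∈ U ∧ f y = s ∧ y ∈ MoreMor.relAss f F) ∧ ¬ FlatMod.IsFlatOverAt f F y}
  have hTfin : T.Finite := hfin.subset fun y hy => hy.1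
  have hc : IsClosed (⋃ y ∈ T, closure {y}) := hTfin.isClosed_biUnion fun _ _ => isClosed_closure
  refine ⟨f.fiberι s ⁻¹' ((U : Set X) \ ⋃ y ∈ T, closure {y}), ?_,
    (U.2.sdiff hc).preimage (f.fiberι s).continuous, hxU, ?_⟩
  · rintro v ⟨hvU, hvT⟩ hv
    refine hv (isFlatOverAt_of_relAss f F hF hFt _ fun y hy hyv hfy => ?_)
    by_contra hyflat
    have hsv : f (f.fiberι s v) = s := (f.range_fiberι s).subset (Set.mem_range_self v)
    exact hvT (Set.mem_iUnion₂.2 ⟨y, ⟨⟨hyv.mem_open U.2 hvU, hfy.trans hsv, hy⟩, hyflat⟩, hyv.mem_closure⟩)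
  · intro hmem
    obtain ⟨y, hy, hyu⟩ := Set.mem_iUnion₂.1 hmem
    exact hy.2 (isFlatOverAt_of_specializes f F hF (specializes_iff_mem_closure.2 hyu) hu)

/-- The dimension of the non-flat locus in a fibre is the supremum of those of its points. -/
theorem dim_not_flat_fibre (F : X.Modules) (hF : Coh.IsQCoh F) (hFt : CohB1.IsFT F) (s : Y) :
    topologicalKrullDim {x : X // f x = s ∧ ¬ FlatMod.IsFlatOverAt f F x} =
      ⨆ u : {u : f.fiber s | ¬ FlatMod.IsFlatOverAt f F (f.fiberι s u)}, FieldDim.cdim u.1 := by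
  let N : Set (f.fiber s) := {u | ¬ FlatMod.IsFlatOverAt f F (f.fiberι s u)}
  have hN : IsClosed N := isClosed_not_flat_fibre f F hF hFt s
  have e1 : topologicalKrullDim {x : X // f x = s ∧ ¬ FlatMod.IsFlatOverAt f F x} = topologicalKrullDim N := by
    refine Eq.trans ?_ (FieldDim.dim_preimage (f.fiberι s).isEmbedding {x | ¬ FlatMod.IsFlatOverAt f F x}).symm
    have e : ({x | ¬ FlatMod.IsFlatOverAt f F x} ∩ Set.range (f.fiberι s) : Set X) =
        {x | f x = s ∧ ¬ FlatMod.IsFlatOverAt f F x} := by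
      rw [f.range_fiberι s]
      ext x
      simp only [Set.mem_inter_iff, Set.mem_ofPred_eq, Set.mem_preimage, Set.mem_singleton_iff]
      tauto
    rw [e]
    rfl
  haveI : QuasiSober N := hN.isClosedEmbedding_subtypeVal.quasiSober
  rw [e1, FieldDim.dim_eq_iSup_cdim (X := N)]
  refine iSup_congr fun v => ?_
  unfold FieldDim.cdim
  have hcl : closure ({v} : Set N) = Subtype.val ⁻¹' closure ({v.1} : Set (f.fiber s)) := by
    rw [IsEmbedding.subtypeVal.closure_eq_preimage_closure_image, Set.image_singleton]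
  rw [hcl, FieldDim.dim_preimage IsEmbedding.subtypeVal, Subtype.range_coe,
    Set.inter_eq_left.2 (hN.closure_subset_iff.2 (Set.singleton_subset_iff.2 v.2))]

end Groth.Agent.H8Props.FlatGen
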